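import Groth.Agent.NLAmp.Main
import Groth.Agent.CIPres.Gorenstein
import Groth.Agent.GorenBasic.FieldExt
import Groth.Agent.LiaisonHelp.Basic
import Groth.Agent.SyntLCI.BaseChange
import Groth.Agent.RegLocus.Fiber
import Groth.Agent.FlatLocalDepth.Basic
import Groth.Agent.CAlgSerre.Reduced

/-!
# `H₁` of the naive cotangent complex of a generically smooth local complete intersection
-/

set_option autoImplicit false
set_option linter.style.haveILetI false

noncomputable section

universe u

open IsLocalRing TensorProduct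

namespace Groth.Agent.LCIH1

theorem subsingleton_h1 (A B : Type u) [CommRing A] [CommRing B] [Algebra A B] [IsNoetherianRing B]
    (h : LCI.IsLCI A B)
    (hass : ∀ (P : Ideal B) [P.IsPrime], P ∈ associatedPrimes B B →
      Subsingleton (Algebra.H1Cotangent A (Localization.AtPrime P))) :
    Subsingleton (Algebra.H1Cotangent A B) := by
  obtain ⟨-, n, f, hf, hI⟩ := h
  let G := NLAmp.gens A B f hf
  let alg : Algebra (MvPolynomial (Fin n) A) B := f.toRingHom.toAlgebra
  have : IsScalarTower A (MvPolynomial (Fin n) A) B := .of_algebraMap_eq fun a => (f.commutes a).symm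
  let E : Algebra.Extension.{u} A B :=
    { Ring := MvPolynomial (Fin n) A, σ := fun b => (hf b).choose, algebraMap_σ := fun b => (hf b).choose_spec }
  obtain ⟨hfin, hproj⟩ := NLAmp.projective_cotangent E (NLAmp.hasLocalBases_of_isKoszulRegularIdeal hI)
  haveI : Algebra.FormallySmooth A E.Ring := inferInstanceAs (Algebra.FormallySmooth A (MvPolynomial (Fin n) A))
  let e := E.equivH1CotangentOfFormallySmooth
  obtain ⟨m, π, hπ⟩ := Module.Finite.exists_fin' B E.Cotangent
  obtain ⟨σ, hσ⟩ := Module.projective_lifting_property π LinearMap.id hπ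
  have hσi : Function.Injective σ := fun a b h => by
    simpa [← LinearMap.comp_apply, hσ] using congrArg π h
  let ι : Algebra.H1Cotangent A B →ₗ[B] (Fin m → B) := σ ∘ₗ Algebra.Extension.h1Cotangentι ∘ₗ e.symm.toLinearMap
  have hι : Function.Injective ι :=
    hσi.comp (Algebra.Extension.h1Cotangentι_injective.comp e.symm.injective)
  refine subsingleton_of_forall_eq 0 fun x => ?_
  by_contra hx
  obtain ⟨i, hi⟩ := Function.ne_iff.1 (fun h0 => hx (hι (h0.trans ι.map_zero.symm)))
  obtain ⟨P, hP, hle⟩ := exists_le_isAssociatedPrime_of_isNoetherianRing B (ι x i) hi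
  haveI := IsAssociatedPrime.isPrime hP
  haveI := hass P hP
  have h0 : Algebra.H1Cotangent.map A A B (Localization.AtPrime P) x = 0 := Subsingleton.elim _ _
  obtain ⟨s, hs⟩ := (IsLocalizedModule.eq_zero_iff P.primeCompl _).1 h0
  refine s.2 (hle ?_)
  have := congrArg (fun z => ι z i) hs
  simpa [Submodule.mem_colon_singleton, Submonoid.smul_def] using this

theorem mem_minimalPrimes_of_isLCI_field (k B : Type u) [Field k] [CommRing B] [Algebra k B] (h : LCI.IsLCI k B)
    (P : Ideal B) (hP : P ∈ associatedPrimes B B) : P ∈ minimalPrimes B := by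
  haveI := GorenBasic.isGorensteinRing_of_field k
  haveI := CIPres.isGorensteinRing_of_isLCI k B h
  haveI := LiaisonHelp.isCohenMacaulayRing_of_gorenstein B
  refine CAlgSerre.hasSk_one_ring_iff.1 ?_ P hP
  intro p hp
  have hcm := LocCoh.IsCohenMacaulayRing.isCohenMacaulayLocalRing_localization (R := B) p
  have hd : ringKrullDim (Localization.AtPrime p) = _ := Depth.ringKrullDim_eq_depth (R := Localization.AtPrime p)
  have he := Depth.localizedSelfEquiv (R := B) p.primeCompl
  rw [Module.supportDim_eq_of_equiv he, Module.supportDim_self_eq_ringKrullDim, hd, Depth.depth_congr he]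
  exact min_le_right _ _

theorem minimal_in_fibre (A B : Type u) [CommRing A] [CommRing B] [Algebra A B] [IsNoetherianRing A]
    [Module.Flat A B] (h : LCI.IsLCI A B) (P : Ideal B) [P.IsPrime] (hP : P ∈ associatedPrimes B B) :
    P ∈ (((P.comap (algebraMap A B))).map (algebraMap A B)).minimalPrimes := by
  haveI : Algebra.FiniteType A B := h.1
  haveI : IsNoetherianRing B := Algebra.FiniteType.isNoetherianRing A B
  let p := P.comap (algebraMap A B)
  haveI : P.LiesOver p := ⟨rfl⟩
  have hfib := SyntLCI.isSyntomic_baseChange ((SyntLCI.isSyntomic_iff A B).2 ⟨inferInstance, h⟩) p.ResidueField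
  have hlci : LCI.IsLCI p.ResidueField (p.Fiber B) := ((SyntLCI.isSyntomic_iff _ _).1 hfib).2
  haveI := GorenBasic.isGorensteinRing_of_field p.ResidueField
  haveI := CIPres.isGorensteinRing_of_isLCI p.ResidueField (p.Fiber B) hlci
  haveI := LiaisonHelp.isCohenMacaulayRing_of_gorenstein (p.Fiber B)
  obtain ⟨Q, hQ, ⟨eQ⟩⟩ := RegLocus.exists_fibre_localization A B P
  haveI := hQ
  let R := Localization.AtPrime p
  let S := Localization.AtPrime P
  letI := Localization.AtPrime.algebraOfLiesOver p P
  haveI : IsScalarTower A R S := IsScalarTower.of_algebraMap_eq fun a => by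
    rw [IsScalarTower.algebraMap_apply A B S]
    exact (Localization.localRingHom_to_map _ _ _ (Ideal.over_def P p) a).symm
  haveI : IsLocalHom (algebraMap R S) := Localization.isLocalHom_localRingHom _ _ _ (Ideal.over_def P p)
  haveI : Module.Flat A S := Module.Flat.trans A B S
  haveI : Module.Flat R S := (Module.flat_iff_of_isLocalization R p.primeCompl S).2 ‹_›
  have hmax : (maximalIdeal R).map (algebraMap R S) = p.map (algebraMap A S) := by
    rw [← Localization.AtPrime.map_eq_maximalIdeal, Ideal.map_map, ← IsScalarTower.algebraMap_eq]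
  have hF : LocCoh.IsCohenMacaulayLocalRing (S ⧸ (maximalIdeal R).map (algebraMap R S)) :=
    @FlatLocalDepth.isCohenMacaulayLocalRing_of_ringEquiv _ _ _ _
      (LocCoh.IsCohenMacaulayRing.isCohenMacaulayLocalRing_localization (R := p.Fiber B) Q)
      (eQ.trans (Ideal.quotEquivOfEq (hmax.symm)))
  -- depth `0` at an associated prime
  have hzero : LocCoh.depth S S = 0 := by
    refine Depth.depth_eq_zero_iff.2 ?_
    have := Module.associatedPrimes.mem_associatedPrimes_atPrime_of_mem_associatedPrimes (p := P) hP
    exact (LinearEquiv.AssociatedPrimes.eq (Depth.localizedSelfEquiv P.primeCompl)).le this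
  have hadd := FlatLocalDepth.depth_eq_add R S
  rw [hzero] at hadd
  haveI := FlatLocalDepth.nontrivial_fibre R S
  haveI : IsLocalRing (S ⧸ (maximalIdeal R).map (algebraMap R S)) :=
    IsLocalRing.of_surjective' (Ideal.Quotient.mk _) Ideal.Quotient.mk_surjective
  have hdim : ringKrullDim (S ⧸ (maximalIdeal R).map (algebraMap R S)) = 0 := by
    rw [Depth.ringKrullDim_eq_depth (R := S ⧸ (maximalIdeal R).map (algebraMap R S)),
      Depth.depth_eq_of_surjective (R := S) (M := S ⧸ (maximalIdeal R).map (algebraMap R S)) Ideal.Quotient.mk_surjective,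
      (add_eq_zero.1 hadd.symm).2]
    rfl
  refine ⟨⟨inferInstance, Ideal.map_comap_le⟩, fun q ⟨hq, hpq⟩ hqP => ?_⟩
  haveI := hq
  have hdis : Disjoint (P.primeCompl : Set B) q := Set.disjoint_left.2 fun x hx hxq => hx (hqP hxq)
  haveI hq' := IsLocalization.isPrime_of_isPrime_disjoint P.primeCompl S q hq hdis
  set J := (maximalIdeal R).map (algebraMap R S)
  have hJq : J ≤ q.map (algebraMap B S) := by
    rw [hmax, IsScalarTower.algebraMap_eq A B S, ← Ideal.map_map]; exact Ideal.map_mono hpq
  have hqJ : ((q.map (algebraMap B S)).map (Ideal.Quotient.mk J)).IsPrime :=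
    Ideal.map_isPrime_of_surjective Ideal.Quotient.mk_surjective (by rw [Ideal.mk_ker]; exact hJq)
  haveI : Ring.KrullDimLE 0 (S ⧸ J) := Ring.krullDimLE_iff.2 (by rw [hdim]; rfl)
  have hmaxq := Ideal.IsPrime.isMaximal' hqJ
  have hqm : q.map (algebraMap B S) = maximalIdeal S := by
    have h1 := congrArg (Ideal.comap (Ideal.Quotient.mk J)) (IsLocalRing.eq_maximalIdeal hmaxq)
    rw [Ideal.comap_map_of_surjective _ Ideal.Quotient.mk_surjective, ← RingHom.ker_eq_comap_bot, Ideal.mk_ker,
      sup_eq_left.2 hJq] at h1
    rw [h1]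
    exact IsLocalRing.eq_maximalIdeal (Ideal.comap_isMaximal_of_surjective _ Ideal.Quotient.mk_surjective)
  have := IsLocalization.under_map_of_isPrime_disjoint P.primeCompl S hq hdis
  rw [hqm, Localization.AtPrime.under_maximalIdeal] at this
  exact this.le

end Groth.Agent.LCIH1

end
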